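import Cfsg.Agent.H752.Inv
import Cfsg.Agent.H802.FusSub
set_option linter.all false

/-!
# Receptivity, full automization, normality in terms of functions (helper754)

`Mp` versions (see `H752.Mp`) of receptive subgroups and of normal subsystems.
-/

set_option autoImplicit false

namespace Cfsg.Agent.H754

open Cfsg Cfsg.FusionSystem
open Cfsg.Agent.H752

variable {Ω : Type*} [Group Ω] {S T : Subgroup Ω}
variable {F : FusionSystem S} {E : FusionSystem T}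

/-- A map on `A ⊔ B` carries it into `C` when it does so on `A` and on `B`. -/
theorem mp_sup_mem {A B C : Subgroup Ω} {f : Ω → Ω} (hf : Mp F (A ⊔ B) f)
    (hA : ∀ x ∈ A, f x ∈ C) (hB : ∀ x ∈ B, f x ∈ C) : ∀ x ∈ A ⊔ B, f x ∈ C := by
  intro x hx
  obtain ⟨φ, -, h1⟩ := id hf
  have h2 := H759.hom_sup_mem (φ := φ) (R := C)
    (fun x hx hx' => by rw [h1 x hx']; exact hA x hx)
    (fun x hx hx' => by rw [h1 x hx']; exact hB x hx) ⟨x, hx⟩
  rwa [h1 x hx] at h2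

/-- Two maps agreeing on `A` and on `B` agree on `A ⊔ B`. -/
theorem mp_sup_eq {S' : Subgroup Ω} {F' : FusionSystem S'} {A B : Subgroup Ω} {f g : Ω → Ω}
    (hf : Mp F (A ⊔ B) f) (hg : Mp F' (A ⊔ B) g)
    (hA : ∀ x ∈ A, f x = g x) (hB : ∀ x ∈ B, f x = g x) : ∀ x ∈ A ⊔ B, f x = g x := by
  intro x hx
  obtain ⟨φ, -, h1⟩ := id hf
  obtain ⟨ψ, -, h2⟩ := id hg
  have h3 : A ⊔ B ≤ (MonoidHom.eqLocus φ ψ).map (A ⊔ B).subtype := by
    refine sup_le (fun y hy => ?_) (fun y hy => ?_)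
    · refine ⟨⟨y, (le_sup_left : A ≤ A ⊔ B) hy⟩, ?_, rfl⟩
      show φ _ = ψ _
      rw [h1, h2]
      exact hA y hy
    · refine ⟨⟨y, (le_sup_right : B ≤ A ⊔ B) hy⟩, ?_, rfl⟩
      show φ _ = ψ _
      rw [h1, h2]
      exact hB y hy
  obtain ⟨y, hy, hyx⟩ := h3 hx
  have h4 : φ y = ψ y := hy
  have h5 : (y : Ω) = x := hyx
  rw [← h5, ← h1 _ y.2, ← h2 _ y.2]
  exact h4

/-- Receptivity in terms of functions. -/
theorem mp_extend {Q : Subgroup Ω} (hQ : F.IsReceptive Q) {P N : Subgroup Ω} {f : Ω → Ω}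
    (hf : Mp F P f) (hfQ : ∀ y, y ∈ Q ↔ ∃ x ∈ P, f x = y) (hPN : P ≤ N)
    (hN : ∀ g ∈ N, g ∈ S ∧ g ∈ Subgroup.normalizer (P : Set Ω) ∧
      ∃ h ∈ S, ∀ x ∈ P, f (g * x * g⁻¹) = h * f x * h⁻¹) :
    ∃ k, Mp F N k ∧ ∀ x ∈ P, k x = f x := by
  obtain ⟨φ, hφ, h1⟩ := hf
  have hr : φ.range = Q := by
    ext y
    rw [hfQ]
    constructor
    · rintro ⟨x, rfl⟩
      exact ⟨x, x.2, (h1 x x.2).symm⟩
    · rintro ⟨x, hx, rfl⟩
      exact ⟨⟨x, hx⟩, h1 x hx⟩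
  obtain ⟨ψ, hψ, h2⟩ := hQ.2 P φ hφ hr
  have hNe : N ≤ extender S P φ := by
    intro g hg
    obtain ⟨hgS, hgn, h, hh, h3⟩ := hN g hg
    rw [H802.mem_extender_iff]
    refine ⟨hgS, hgn, h, hh, fun x hx => ?_⟩
    rw [h1, h1 x x.2]
    exact h3 x x.2
  refine ⟨ex ψ, (mp_ex hψ).res hNe, fun x hx => ?_⟩
  rw [ex_apply _ (hNe (hPN hx)), h2 x hx (hNe (hPN hx)), h1]

/-- A criterion for receptivity in terms of functions. -/
theorem isReceptive_of_mp {Q : Subgroup Ω} (hQ : Q ≤ S)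
    (h : ∀ (P N : Subgroup Ω) (f : Ω → Ω), Mp F P f → (∀ y, y ∈ Q ↔ ∃ x ∈ P, f x = y) → P ≤ N →
      (∀ g ∈ N, g ∈ S ∧ g ∈ Subgroup.normalizer (P : Set Ω) ∧
        ∃ h ∈ S, ∀ x ∈ P, f (g * x * g⁻¹) = h * f x * h⁻¹) →
      ∃ k, Mp F N k ∧ ∀ x ∈ P, k x = f x) : F.IsReceptive Q := by
  refine ⟨hQ, fun P φ hφ hr => ?_⟩
  have hPS : P ≤ S := (F.le_of_mem hφ).1
  have hPe : P ≤ extender S P φ := H802.le_extender hPS fun x => (F.le_of_mem hφ).2 x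
  obtain ⟨k, ⟨ψ, hψ, h1⟩, h2⟩ := h P (extender S P φ) (ex φ) (mp_ex hφ) (by
      intro y
      rw [← hr]
      constructor
      · rintro ⟨x, rfl⟩
        exact ⟨x, x.2, ex_coe _ x⟩
      · rintro ⟨x, hx, rfl⟩
        exact ⟨⟨x, hx⟩, (ex_apply _ hx).symm⟩) hPe (by
      intro g hg
      obtain ⟨hgS, hgn, h, hh, h3⟩ := (H802.mem_extender_iff S P φ g).1 hg
      refine ⟨hgS, hgn, h, hh, fun x hx => ?_⟩
      have h4 : g * x * g⁻¹ ∈ P := (Subgroup.mem_normalizer_iff.1 hgn x).1 hx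
      rw [ex_apply _ h4, ex_apply _ hx]
      exact h3 ⟨x, hx⟩ h4)
  refine ⟨ψ, hψ, fun x hP hN => ?_⟩
  rw [h1 x hN, h2 x hP, ex_apply _ hP]

/-- A criterion for normality in terms of functions. -/
theorem isNormalIn_of_mp {p : ℕ} [Finite S] (hE : E.IsWeaklyNormalIn F p)
    (h : ∀ a, Mp E T a → ∃ b, Mp F (T ⊔ centralizerIn S T) b ∧ (∀ x ∈ T, b x = a x) ∧
      ∀ c ∈ centralizerIn S T, c⁻¹ * b c ∈ T ⊓ Subgroup.centralizer (T : Set Ω)) :
    E.IsNormalIn F p := by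
  have hTS : T ≤ S := hE.2.2.2.1.1
  refine ⟨hE, fun α hα => ?_⟩
  obtain ⟨b, hb, hba, hbc⟩ := h _ ((mp_iff_autGroup le_rfl α).1 hα)
  have hfin : Finite (T ⊔ centralizerIn S T : Subgroup Ω) :=
    H802.finite_of_le (sup_le hTS inf_le_left)
  have hT : ∀ x ∈ T, b x ∈ T ⊔ centralizerIn S T := fun x hx => by
    rw [hba x hx, ex_apply _ hx]
    exact (le_sup_left : T ≤ _) (α ⟨x, hx⟩).2
  have hC : ∀ x ∈ centralizerIn S T, b x ∈ T ⊔ centralizerIn S T := fun x hx => by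
    have h1 : b x = x * (x⁻¹ * b x) := by rw [mul_inv_cancel_left]
    rw [h1]
    exact mul_mem ((le_sup_right : centralizerIn S T ≤ _) hx)
      ((le_sup_left : T ≤ _) (hbc x hx).1)
  obtain ⟨β, hβ, h1⟩ := hb.exists_aut (mp_sup_mem hb hT hC)
  refine ⟨β, hβ, fun x => ?_, fun c hc => ?_⟩
  · have h2 := h1 x ((le_sup_left : T ≤ T ⊔ centralizerIn S T) x.2)
    rw [hba x x.2, ex_coe] at h2
    exact h2.symm
  · have h2 := h1 c c.2
    have h3 := hbc c hc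
    rw [h2] at h3
    exact h3

/-- The extension condition of normal subsystems in terms of functions. -/
theorem exists_ext_of_isNormalIn {p : ℕ} [Finite S] (hE : E.IsNormalIn F p) {a : Ω → Ω}
    (ha : Mp E T a) : ∃ b, Mp F (T ⊔ centralizerIn S T) b ∧ (∀ x ∈ T, b x = a x) ∧
      ∀ c ∈ centralizerIn S T, c⁻¹ * b c ∈ T ⊓ Subgroup.centralizer (T : Set Ω) := by
  have hTS : T ≤ S := hE.1.2.2.2.1.1
  have hTf : Finite T := H802.finite_of_le hTS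
  obtain ⟨α, hα, h1⟩ := ha.exists_aut fun x hx => ha.mem hx
  obtain ⟨β, hβ, h2, h3⟩ := hE.2 α hα
  have hCS : centralizerIn S T ≤ S := inf_le_left
  have hle : T ⊔ centralizerIn S T ≤ S := sup_le hTS hCS
  refine ⟨_, (mp_iff_autGroup hle β).1 hβ, fun x hx => ?_, fun c hc => ?_⟩
  · rw [ex_apply _ ((le_sup_left : T ≤ T ⊔ centralizerIn S T) hx), h1 x hx]
    exact h2 ⟨x, hx⟩
  · have h4 : c ∈ T ⊔ centralizerIn S T := (le_sup_right : centralizerIn S T ≤ _) hc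
    rw [ex_apply _ h4]
    exact h3 ⟨c, h4⟩ hc

/-- Weak normality in terms of functions. -/
theorem isWeaklyNormalIn_iff {p : ℕ} [Finite T] : E.IsWeaklyNormalIn F p ↔
    E.IsSaturated p ∧ F.IsSaturated p ∧ E.IsSubsystemOf F ∧ F.StronglyClosed T ∧ InvC E F ∧
      ∀ (P : Subgroup Ω) (f : Ω → Ω), P ≤ T → Mp F P f → FratC E F P f := by
  unfold IsWeaklyNormalIn
  rw [isInvariantIn_iff]

end Cfsg.Agent.H754
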